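/-
At type M(23) the common partners of two non-commuting members form a strongly regular graph with
parameters (351, 126, 45, 45) (after `H98.Fischer.Sphere`, one level down).
-/
import Cfsg.Agent.H98.Fischer.Row
import Cfsg.Agent.H98.M24.Facts
import Cfsg.Agent.H65.Fischer.Orders
import Cfsg.Agent.H99.Fischer.Wiring

set_option autoImplicit false

namespace H20.BigBound

open Cfsg H99 H65.Fischer H98.M24 H98.Fischer
open H5.TT.Fac (Down qD Desc)

universe u

variable {G : Type u} [Group G] [Finite G] {D : Set G}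
  (hD : IsThreeTranspositionGroup D) (hp : IsPrimitiveUnderConj D) (h : IsOfTypeM23 G D)
include hD hp h

/-- The partners of a member. -/
theorem srg_one {a : G} (ha : a ∈ D) : IsSRG (perp D a) 3510 693 180 126 :=
  ((m23_setting hD hp h).loc a ha).srg

/-- The common partners of a commuting pair. -/
theorem srg_two {a b : G} (ha : a ∈ D) (hb : b ∈ perp D a) :
    IsSRG (perp D a ∩ perp D b) 693 180 51 45 := by
  have hS := m23_setting hD hp h
  have hce : CE D := CE.of_class hS.cls
  obtain ⟨d, hd, hdesc, hpY, hY⟩ := m23_down hD hp h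
  have hY' := class_toGroup (H5.TT.Fac.qD_class hdesc)
  have hS2 := m22_setting hY' hpY hY
  have hce1 : CE (qD D d) := CE.of_class hS2.cls
  have hdn := eqv_dn hdesc hce hd
  obtain ⟨g, hg⟩ := class_isConj hS.cls ha hd
  have hga : cj g a = d := hg
  have hgb : cj g b ∈ perp D d := hga ▸ perp_conj hS.conj g hb
  have hgE : Eqv (perp D a ∩ perp D b) (perp D d ∩ perp D (cj g b)) (cj g) :=
    Eqv.ofConj g (by rw [cj_perp_inter hS.conj, hga])
  have hr := hdn.restrict (hce.perp hd) hce1 hgb
  rw [perp_perp] at hr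
  have hcep : ∀ {x y : G}, x ∈ D → y ∈ perp D x → CE (perp D x ∩ perp D y) := fun hx hy => by
    rw [← perp_perp]; exact (hce.perp hx).perp hy
  exact (hgE.trans hr).srg (hcep ha hb) (hce1.perp (hdn.mem hgb))
    (hS2.loc _ (hdn.mem hgb)).srg

variable {x y s t : G}

lemma deg_sphere (hx : x ∈ D) (hy : y ∈ D) (hxy : ¬ Commute x y)
    (hs : s ∈ perp D x ∩ perp D y) :
    (perp D x ∩ perp D y ∩ perp D s).ncard = 126 := by
  rw [← (srg_one hD hp h hs.1.1).nonadj x (perp_mem_symm hx hs.1) y (perp_mem_symm hy hs.2) hxy]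
  congr 1
  ext z
  simp only [perp, Set.mem_inter_iff, Set.mem_ofPred_eq]
  tauto

lemma adj_sphere (hx : x ∈ D) (hy : y ∈ D) (hxy : ¬ Commute x y)
    (hs : s ∈ perp D x ∩ perp D y) (ht : t ∈ perp D x ∩ perp D y) (hts : t ∈ perp D s) :
    (perp D x ∩ perp D y ∩ perp D s ∩ perp D t).ncard = 45 := by
  rw [← (srg_two hD hp h hs.1.1 hts).nonadj x ⟨perp_mem_symm hx hs.1, perp_mem_symm hx ht.1⟩
    y ⟨perp_mem_symm hy hs.2, perp_mem_symm hy ht.2⟩ hxy]
  congr 1
  ext z
  simp only [perp, Set.mem_inter_iff, Set.mem_ofPred_eq]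
  tauto

lemma nonadj_sphere (hx : x ∈ D) (hy : y ∈ D) (hxy : ¬ Commute x y)
    (hs : s ∈ perp D x ∩ perp D y) (ht : t ∈ perp D x ∩ perp D y) (hst : ¬ Commute s t) :
    (perp D x ∩ perp D y ∩ perp D s ∩ perp D t).ncard = 45 := by
  classical
  have hconj : ∀ g : G, ∀ d ∈ D, g * d * g⁻¹ ∈ D := (m23_setting hD hp h).conj
  have hT := (m23_setting hD hp h).tt
  obtain ⟨hzD, hxz, hyz⟩ := tt_third hT hconj hx hy hxy
  set z₀ := x * y * x with hz₀
  have hcz : ∀ {v : G}, Commute x v → Commute y v → Commute z₀ v := fun h1 h2 =>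
    (h1.mul_left h2).mul_left h1
  set T := perp D x ∩ perp D y with hTdef
  -- the three sets of the equality
  set A := T ∩ perp D s with hA
  set B : Set G := {x, y, z₀} with hB
  set E := D with hE
  have hsE : s ∈ E := hs.1.1
  have hEp : ∀ (S : Set G), S ⊆ E → ∀ v, S ∩ perp E v = S ∩ perp D v := fun S hS v => by
    ext w
    exact ⟨fun h => ⟨h.1, h.2⟩, fun h => ⟨h.1, h.2⟩⟩
  have hBE : B ⊆ E := by rintro v (rfl | rfl | rfl) <;> assumption
  have hAE : A ⊆ E := fun v hv => hv.1.1.1
  have hPE : ({s} : Set G) ⊆ E := Set.singleton_subset_iff.2 hsE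
  have hne1 : x ≠ y := fun h => hxy (h ▸ Commute.refl x)
  have hne2 : x ≠ z₀ := fun h => hxz (h ▸ Commute.refl x)
  have hne3 : y ≠ z₀ := fun h => hyz (h ▸ Commute.refl y)
  -- members of the sphere commute with the whole line and lie off it
  have hTB : ∀ v ∈ T, ∀ b ∈ B, Commute v b ∧ v ≠ b := by
    rintro v ⟨hvx, hvy⟩ b (rfl | rfl | rfl)
    · exact ⟨hvx.2.2.symm, hvx.2.1⟩
    · exact ⟨hvy.2.2.symm, hvy.2.1⟩
    · refine ⟨(hcz hvx.2.2 hvy.2.2).symm, ?_⟩
      rintro rfl
      exact hxz hvx.2.2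
  have hBnc : ∀ b ∈ B, ∀ c ∈ B, c ≠ b → ¬ Commute b c := by
    rintro b (rfl | rfl | rfl) c (rfl | rfl | rfl) hcb
    all_goals
      first
        | exact absurd rfl hcb
        | exact hxy
        | exact hxz
        | exact hyz
        | exact fun h => hxy h.symm
        | exact fun h => hxz h.symm
        | exact fun h => hyz h.symm
  have hBc : B.ncard = 3 := by
    rw [hB, Set.ncard_insert_of_notMem (by simp [hne1, hne2]) (Set.toFinite _), Set.ncard_pair hne3]
  have hAc : A.ncard = 126 := deg_sphere hD hp h hx hy hxy hs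
  have hBsub : ∀ v ∈ T, B ∩ perp D v = B := fun v hv => Set.inter_eq_left.2 fun b hb =>
    ⟨hBE hb, fun h => (hTB v hv b hb).2 h.symm, (hTB v hv b hb).1⟩
  let S : Fin 3 → Set G := ![A, B, {s}]
  let e : Fin 3 → Fin 3 → ℕ := ![![45, 3, 1], ![126, 0, 1], ![126, 3, 0]]
  have hsub : ∀ i, S i ⊆ E := by
    intro i; fin_cases i
    exacts [hAE, hBE, hPE]
  have hdisj : ∀ i j, i ≠ j → Disjoint (S i) (S j) := by
    have d1 : Disjoint A B := Set.disjoint_left.2 fun v hv hb => (hTB v hv.1 v hb).2 rfl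
    have d2 : Disjoint A {s} := Set.disjoint_singleton_right.2 fun h => h.2.2.1 rfl
    have d3 : Disjoint B {s} := Set.disjoint_singleton_right.2 fun h => (hTB s hs s h).2 rfl
    intro i j hij
    fin_cases i <;> fin_cases j <;>
      first | exact absurd rfl hij | exact d1 | exact d2 | exact d3 | exact d1.symm | exact d2.symm | exact d3.symm
  have he : ∀ i j, ∀ v ∈ S i, (S j ∩ perp E v).ncard = e i j := by
    intro i j v hv
    rw [hEp _ (hsub j)]
    fin_cases i <;> fin_cases j
    · exact adj_sphere hD hp h hx hy hxy hs hv.1 hv.2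
    · show (B ∩ perp D v).ncard = 3
      rw [hBsub v hv.1, hBc]
    · show ({s} ∩ perp D v).ncard = 1
      rw [Set.inter_eq_left.2 (Set.singleton_subset_iff.2 (perp_mem_symm hs.1.1 hv.2)),
        Set.ncard_singleton]
    · show (A ∩ perp D v).ncard = 126
      rw [← hAc]
      congr 1
      exact Set.inter_eq_left.2 fun a ha =>
        ⟨hAE ha, (hTB a ha.1 v hv).2, (hTB a ha.1 v hv).1.symm⟩
    · show (B ∩ perp D v).ncard = 0
      rw [Set.ncard_eq_zero (Set.toFinite _)]
      exact Set.eq_empty_of_forall_notMem fun b hb => hBnc v hv b hb.1 hb.2.2.1 hb.2.2.2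
    · show ({s} ∩ perp D v).ncard = 1
      have hsv : s ∈ perp D v := ⟨hsE, (hTB s hs v hv).2, (hTB s hs v hv).1.symm⟩
      rw [Set.inter_eq_left.2 (Set.singleton_subset_iff.2 hsv), Set.ncard_singleton]
    · obtain rfl : v = s := hv
      show (A ∩ perp D v).ncard = 126
      rw [← hAc]
      congr 1
      exact Set.inter_eq_left.2 fun a ha => ha.2
    · obtain rfl : v = s := hv
      show (B ∩ perp D v).ncard = 3
      rw [hBsub v hs, hBc]
    · obtain rfl : v = s := hv
      show ({v} ∩ perp D v).ncard = 0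
      rw [Set.ncard_eq_zero (Set.toFinite _)]
      exact Set.eq_empty_of_forall_notMem fun b hb => hb.2.2.1 hb.1
  have hrow := row_eq (m23_good hD hp h).srg (by norm_num) (r := -9) (s := 351) (by norm_num)
    (by norm_num) S ![-1, 12, 9] e hsub hdisj he
    (by
      simp only [Fin.sum_univ_three]
      simp only [S, e, Matrix.cons_val_zero, Matrix.cons_val_one, Matrix.cons_val,
        hAc, hBc, Set.ncard_singleton]
      norm_num)
    ht.1.1 (by
      intro i
      fin_cases i
      · exact fun h => hst h.2.2.2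
      · exact fun h => (hTB t ht t h).2 rfl
      · exact fun h => hst ((Set.mem_singleton_iff.1 h) ▸ Commute.refl s))
  rw [Fin.sum_univ_three, Fin.sum_univ_three, hEp _ (hsub 0), hEp _ (hsub 1), hEp _ (hsub 2)] at hrow
  simp only [S, Matrix.cons_val_zero, Matrix.cons_val_one, Matrix.cons_val,
    hBsub t ht, hAc, hBc, Set.ncard_singleton] at hrow
  have hs0 : ({s} ∩ perp D t).ncard = 0 := by
    rw [Set.ncard_eq_zero (Set.toFinite _)]
    exact Set.eq_empty_of_forall_notMem fun b hb => hst (hb.1 ▸ hb.2.2.2.symm)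
  rw [hs0] at hrow
  norm_num at hrow
  have : ((A ∩ perp D t).ncard : ℝ) = 45 := by linarith
  exact_mod_cast this


/-- The common partners of a non-commuting pair. -/
theorem srg_sphere (hx : x ∈ D) (hy : y ∈ D) (hxy : ¬ Commute x y) :
    IsSRG (perp D x ∩ perp D y) 351 126 45 45 := by
  set T := perp D x ∩ perp D y with hT
  have hp' : ∀ s, perp T s = T ∩ perp D s := fun s => by
    ext v
    exact ⟨fun h => ⟨h.1, h.1.1.1, h.2⟩, fun h => ⟨h.1, h.2.2⟩⟩
  have hpp : ∀ s t, perp T s ∩ perp T t = T ∩ perp D s ∩ perp D t := fun s t => by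
    rw [hp', hp']
    ext v
    simp only [Set.mem_inter_iff]
    tauto
  exact ⟨(m23_good hD hp h).srg.nonadj x hx y hy hxy,
    fun s hs => by rw [hp']; exact deg_sphere hD hp h hx hy hxy hs,
    fun s hs t ht hne hc => by
      rw [hpp]
      exact adj_sphere hD hp h hx hy hxy hs ht ⟨ht.1.1, hne.symm, hc⟩,
    fun s hs t ht hc => by
      rw [hpp]
      exact nonadj_sphere hD hp h hx hy hxy hs ht hc⟩

end H20.BigBound
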