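/-
The common partners of two non-commuting members of a class with charts of type M(23): what the
chart at one of them gives.
-/
import Cfsg.Agent.H20.BigBound.Sphere
import Cfsg.Agent.H71.Big24.Local

set_option autoImplicit false
set_option linter.unusedSectionVars false

namespace H20.BigBound

open Cfsg H99 H65.Fischer H71.Big24

universe u

variable {X : Type u} [Group X] [Finite X] {D : Set X} (h : Base D)
include h

/-- The members commuting with one member form a set of 3-transpositions. -/
theorem tt_perp {r : X} (hr : r ∈ D) : IsThreeTranspositionSet (perp D r) := by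
  obtain ⟨Y, T, m⟩ := (h.chart r hr).get
  have hr2 : r * r = 1 := by
    have := pow_orderOf_eq_one r
    rwa [h.ord r hr, pow_two] at this
  refine ⟨fun x hx => h.ord x hx.1, fun x hx y hy => ?_⟩
  obtain ⟨s, hs, rfl⟩ := m.exists_eq hx
  obtain ⟨t, ht, rfl⟩ := m.exists_eq hy
  have e : r * (s : X) * (r * (t : X)) = ((s * t : ↥Y) : X) := by
    rw [show r * (s : X) * (r * (t : X)) = r * ((s : X) * r) * (t : X) by group,
      ← (m.comm s).eq, ← mul_assoc r r, hr2, one_mul, Subgroup.coe_mul]
  rw [e]
  exact (m.group.1.2 s hs t ht).imp (fun h' => by rw [← Subgroup.coe_pow, h', Subgroup.coe_one])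
    fun h' => by rw [← Subgroup.coe_pow, h', Subgroup.coe_one]

variable {d b : X} (hd : d ∈ D) (hb : b ∈ D) (hdb : ¬ Commute d b)
include hd hb hdb

theorem tt_M : IsThreeTranspositionSet (perp D d ∩ perp D b) :=
  tt_mono (tt_perp h hd) Set.inter_subset_left

/-- The common partners are closed under conjugation by themselves. -/
theorem closed_M {a v : X} (ha : a ∈ perp D d ∩ perp D b) (hv : v ∈ perp D d ∩ perp D b) :
    a * v * a ∈ perp D d ∩ perp D b := by
  have hai := tt_inv (tt_M h hd hb hdb) ha
  have h1 := perp_conj h.conj a hv.1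
  have h2 := perp_conj h.conj a hv.2
  rw [show a * d * a⁻¹ = d by rw [ha.1.2.2.symm.eq, mul_inv_cancel_right], hai] at h1
  rw [show a * b * a⁻¹ = b by rw [ha.2.2.2.symm.eq, mul_inv_cancel_right], hai] at h2
  exact ⟨h1, h2⟩

/-- The partners of a common partner among the common partners are the translates of the common
partners of two transpositions in its chart. -/
theorem exists_local {r : X} (hr : r ∈ perp D d ∩ perp D b) :
    ∃ (Y : Subgroup X) (T : Set ↥Y) (p q : ↥Y), Model D r Y T ∧ p ∈ T ∧ q ∈ T ∧ ¬ Commute p q ∧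
      perp (perp D d ∩ perp D b) r = (fun t : ↥Y => r * (t : X)) '' (perp T p ∩ perp T q) ∧
      ∀ s t : ↥Y, Commute (r * (s : X)) (r * (t : X)) ↔ Commute s t := by
  obtain ⟨Y, T, m⟩ := (h.chart r hr.1.1).get
  obtain ⟨p, hp, hpd⟩ := m.exists_eq (perp_mem_symm hd hr.1)
  obtain ⟨q, hq, hqb⟩ := m.exists_eq (perp_mem_symm hb hr.2)
  have hcc : ∀ s t : ↥Y, Commute (r * (s : X)) (r * (t : X)) ↔ Commute s t := by
    refine fun s t => ⟨fun hc => ?_, m.mul_mem_comm⟩
    have e : ∀ u : ↥Y, Commute r⁻¹ (r * (u : X)) := fun u =>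
      (Commute.inv_left ((Commute.refl r).mul_right (m.comm u)))
    have h1 : Commute (r⁻¹ * (r * (s : X))) (r⁻¹ * (r * (t : X))) :=
      ((Commute.refl r⁻¹).mul_right (e t)).mul_left ((e s).symm.mul_right hc)
    rw [inv_mul_cancel_left, inv_mul_cancel_left] at h1
    exact Subtype.ext h1
  have hpq : ¬ Commute p q := fun hc => hdb (hpd ▸ hqb ▸ m.mul_mem_comm hc)
  refine ⟨Y, T, p, q, m, hp, hq, hpq, ?_, hcc⟩
  ext x
  constructor
  · rintro ⟨hx, hxr, hrx⟩
    obtain ⟨t, ht, rfl⟩ := m.exists_eq ⟨hx.1.1, hxr, hrx⟩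
    refine ⟨t, ⟨⟨ht, ?_, ?_⟩, ht, ?_, ?_⟩, rfl⟩
    · rintro rfl; exact hx.1.2.1 hpd
    · exact (hcc p t).1 (hpd.symm ▸ hx.1.2.2)
    · rintro rfl; exact hx.2.2.1 hqb
    · exact (hcc q t).1 (hqb.symm ▸ hx.2.2.2)
  · rintro ⟨t, ⟨⟨ht, htp, hpt⟩, -, htq, hqt⟩, rfl⟩
    have hm := m.mem ht
    refine ⟨⟨⟨hm.1, fun e => htp (Subtype.ext (mul_left_cancel (e.trans hpd.symm))), ?_⟩,
      hm.1, fun e => htq (Subtype.ext (mul_left_cancel (e.trans hqb.symm))), ?_⟩, hm.2⟩
    · exact hpd ▸ (hcc p t).2 hpt
    · exact hqb ▸ (hcc q t).2 hqt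

/-- The partners of a common partner among the common partners. -/
theorem srg_local {r : X} (hr : r ∈ perp D d ∩ perp D b) :
    IsSRG (perp (perp D d ∩ perp D b) r) 351 126 45 45 := by
  obtain ⟨Y, T, p, q, m, hp, hq, hpq, he, hcc⟩ := exists_local h hd hb hdb hr
  have hmem : ∀ x ∈ perp (perp D d ∩ perp D b) r, ∃ t ∈ perp T p ∩ perp T q, r * (t : X) = x :=
    fun x hx => by rw [he] at hx; exact hx
  refine srg_transfer (fun x hx => (hmem x hx).choose) (fun x hx => (hmem x hx).choose_spec.1)
    (fun t ht => ?_) (fun x hx y hy e => ?_) (fun x hx y hy => ?_)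
    (srg_sphere m.group m.prim m.typ hp hq hpq)
  · have hx : r * (t : X) ∈ perp (perp D d ∩ perp D b) r := by rw [he]; exact ⟨t, ht, rfl⟩
    exact ⟨_, hx, Subtype.ext (mul_left_cancel (hmem _ hx).choose_spec.2)⟩
  · rw [← (hmem x hx).choose_spec.2, ← (hmem y hy).choose_spec.2, e]
  · conv_rhs => rw [← (hmem x hx).choose_spec.2, ← (hmem y hy).choose_spec.2]
    exact (hcc _ _).symm

omit h hd hb hdb in
/-- A member commuting with the product of three commuting members of a set of 3-transpositions
commutes with each of them. -/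
theorem commute_triple {S : Set X} (hS : IsThreeTranspositionSet S) {y a b c : X} (hy : y ∈ S)
    (ha : a ∈ S) (hb : b ∈ S) (hc : c ∈ S) (hab : Commute a b) (hac : Commute a c)
    (hbc : Commute b c) (hne : a ≠ b) (h : Commute y (a * b * c)) :
    Commute y a ∨ Commute y b ∨ Commute y c → a ≠ c → b ≠ c →
      Commute y a ∧ Commute y b ∧ Commute y c := by
  intro hor hne' hne''
  have hsq : ∀ {u : X}, u ∈ S → u * u = 1 := fun hu => tt_mul_self hS hu
  -- a member commuting with two of three commutes with the third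
  have one : ∀ {u v w : X}, u ∈ S → v ∈ S → w ∈ S → Commute y (u * v * w) → Commute y v →
      Commute y w → Commute y u := by
    intro u v w hu hv hw h h1 h2
    have := (h.mul_right h2).mul_right h1
    rwa [show u * v * w * w * v = u * v * (w * w) * v by group, hsq hw, mul_one,
      show u * v * v = u * (v * v) by group, hsq hv, mul_one] at this
  -- and cannot fail to commute with exactly two
  have two : ∀ {u v w : X}, u ∈ S → v ∈ S → w ∈ S → u ≠ v → Commute u v →
      Commute y (u * v * w) → Commute y w → Commute y u := by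
    intro u v w hu hv hw huv huv' h h1
    by_contra hn
    have hnv : ¬ Commute y v := fun hv' => hn (one hu hv hw h hv' h1)
    have h2 := h.mul_right h1
    rw [show u * v * w * w = u * v * (w * w) by group, hsq hw, mul_one] at h2
    have h3 : u * y * u = v * y * v := by
      calc u * y * u = u * (y * (u * v)) * v := by
            rw [show u * (y * (u * v)) * v = u * y * u * (v * v) by group, hsq hv, mul_one]
        _ = (u * u) * v * y * v := by rw [h2.eq]; group
        _ = v * y * v := by rw [hsq hu, one_mul]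
    rw [tt_braid hS hu hy (fun e => hn e.symm), tt_braid hS hv hy (fun e => hnv e.symm)] at h3
    exact huv (mul_left_cancel (mul_right_cancel h3))
  have hb' : Commute y (b * a * c) := by rwa [← hab.eq]
  have hc' : Commute y (c * a * b) := by
    rwa [← hac.eq, mul_assoc, ← hbc.eq, ← mul_assoc]
  have hacb : Commute y (a * c * b) := by rwa [mul_assoc, ← hbc.eq, ← mul_assoc]
  rcases hor with h1 | h1 | h1
  · have h2 : Commute y (b * c * a) := by rwa [mul_assoc, ← hac.eq, ← mul_assoc]
    have hyb := two hb hc ha hne'' hbc h2 h1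
    have h3 : Commute y (c * b * a) := by rwa [← hbc.eq]
    exact ⟨h1, hyb, two hc hb ha hne''.symm hbc.symm h3 h1⟩
  · have h2 : Commute y (c * a * b) := hc'
    exact ⟨two ha hc hb hne' hac hacb h1, h1, two hc ha hb hne'.symm hac.symm h2 h1⟩
  · exact ⟨two ha hb hc hne hab h h1, two hb ha hc hne.symm hab.symm hb' h1, h1⟩

omit h hd hb hdb in
/-- A member commuting with the product of three commuting members of a set of 3-transpositions
commutes with one of them. -/
theorem commute_one_of_triple {S : Set X} (hS : IsThreeTranspositionSet S) {y a b c : X}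
    (hy : y ∈ S) (ha : a ∈ S) (hb : b ∈ S) (hc : c ∈ S) (hab : Commute a b) (hac : Commute a c)
    (hbc : Commute b c) (h : Commute y (a * b * c)) :
    Commute y a ∨ Commute y b ∨ Commute y c := by
  by_contra hn
  push Not at hn
  obtain ⟨hna, hnb, hnc⟩ := hn
  have hsq : ∀ {u : X}, u ∈ S → u * u = 1 := fun hu => tt_mul_self hS hu
  have hya := tt_braid hS hy ha hna
  have hyb := tt_braid hS hy hb hnb
  have hyc := tt_braid hS hy hc hnc
  -- `y c y` is the image of `y` under `a b`
  have h1 : y * c * y = b * (y * a * y) * b := by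
    calc y * c * y = c * y * c := hyc
      _ = (b * a) * ((a * b * c) * y) * c := by
          rw [show b * a * (a * b * c * y) * c = b * (a * a) * b * c * y * c by group, hsq ha,
            mul_one, hsq hb, one_mul]
      _ = (b * a) * (y * (a * b * c)) * c := by rw [h.eq]
      _ = b * a * y * a * b * (c * c) := by group
      _ = b * (y * a * y) * b := by rw [hsq hc, mul_one, hya]; group
  have h2 : c = (b * a) * y * (b * a)⁻¹ := by
    calc c = y * (y * c * y) * y := by
          rw [show y * (y * c * y) * y = (y * y) * c * (y * y) by group, hsq hy, one_mul, mul_one]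
      _ = (y * b * y) * a * (y * b * y) := by rw [h1]; group
      _ = (b * y * b) * a * (b * y * b) := by rw [hyb]
      _ = b * y * (b * a * b) * y * b := by group
      _ = b * y * a * y * b := by rw [hab.symm.eq, mul_assoc a b b, hsq hb, mul_one]
      _ = b * (a * y * a) * b := by rw [← hya]; group
      _ = (b * a) * y * (b * a)⁻¹ := by
          rw [mul_inv_rev, tt_inv hS ha, tt_inv hS hb]; group
  have h3 : Commute (b * a) c := hbc.mul_left hac
  have h4 : y = c := by
    have h5 : (b * a)⁻¹ * c * (b * a) = y := by rw [h2]; group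
    rw [← h5, mul_assoc, ← h3.eq, inv_mul_cancel_left]
  exact hnc (h4 ▸ Commute.refl y)

omit h hd hb hdb in
/-- A member commuting with the product of three commuting members of a set of 3-transpositions
commutes with each of them. -/
theorem commute_all_of_triple {S : Set X} (hS : IsThreeTranspositionSet S) {y a b c : X}
    (hy : y ∈ S) (h3 : H72.Conn.Cl3 S a b c) (h : Commute y (a * b * c)) :
    Commute y a ∧ Commute y b ∧ Commute y c :=
  commute_triple hS hy h3.hx h3.hy h3.hw h3.cxy h3.cxw h3.cyw h3.xy h
    (commute_one_of_triple hS hy h3.hx h3.hy h3.hw h3.cxy h3.cxw h3.cyw h) h3.xw h3.yw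

end H20.BigBound
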