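/-
At most 1620 common partners of two non-commuting members form one component, a class of
3-transpositions with a primitive action on itself.
-/
import Cfsg.Agent.H20.BigBound.Local
import Cfsg.Agent.H98.M24.Comps

set_option autoImplicit false
set_option linter.unusedSectionVars false

namespace H20.BigBound

open Cfsg H99 H65.Fischer H71.Big24

universe u

/-- A strongly regular graph of the parameters of the spheres with what it gives about a set with
constant valency 45. -/
theorem ncard_le_of_inner {X : Type u} [Group X] [Finite X] {N P : Set X}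
    (hN : IsSRG N 351 126 45 45) (hP : P ⊆ N) (hdeg : ∀ u ∈ P, (P ∩ perp N u).ncard = 45) :
    P.ncard ≤ 140 := by
  have hq := (hN.quad (by norm_num) (r := -9) (s := 9) (by norm_num) (by norm_num) P ∅
    hP (Set.empty_subset _) (Set.disjoint_empty _) 1 0 45 0 0 0 hdeg
    (fun w _ => by simp) (fun w hw => absurd hw (Set.notMem_empty w))
    (fun w hw => absurd hw (Set.notMem_empty w))).1
  simp only [Set.ncard_empty, Nat.cast_zero, mul_zero, add_zero] at hq
  by_contra hlt
  have h141 : (141 : ℝ) ≤ (P.ncard : ℝ) := by exact_mod_cast (by omega : 141 ≤ P.ncard)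
  push_cast at hq
  nlinarith

variable {X : Type u} [Group X] [Finite X] {D : Set X} (h : Base D) {d b : X} (hd : d ∈ D)
  (hb : b ∈ D) (hdb : ¬ Commute d b)
include h hd hb hdb

local notation "Mdb" => (perp D d ∩ perp D b)

/-- The common partners of a common partner and another non-commuting one. -/
theorem inner_deg {r z : X} (hr : r ∈ Mdb) (hz : z ∈ Mdb) (hrz : ¬ Commute r z) {u : X}
    (hu : u ∈ perp Mdb r ∩ perp Mdb z) :
    ((perp Mdb r ∩ perp Mdb z) ∩ perp (perp Mdb r) u).ncard = 45 := by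
  rw [← (srg_local h hd hb hdb hu.1.1).nonadj r (perp_mem_symm hr hu.1) z (perp_mem_symm hz hu.2)
    hrz]
  congr 1
  ext w
  simp only [perp, Set.mem_inter_iff, Set.mem_ofPred_eq]
  tauto

theorem inner_le {r z : X} (hr : r ∈ Mdb) (hz : z ∈ Mdb) (hrz : ¬ Commute r z) :
    (perp Mdb r ∩ perp Mdb z).ncard ≤ 140 :=
  ncard_le_of_inner (srg_local h hd hb hdb hr) Set.inter_subset_left
    fun _ hu => inner_deg h hd hb hdb hr hz hrz hu

/-- A member of a component has at least 913 others in it. -/
theorem comp_ge {r : X} (hr : r ∈ Mdb) : 914 ≤ (H98.M24.comp Mdb r).ncard := by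
  classical
  set C := H98.M24.comp Mdb r with hC
  set N := perp Mdb r with hN
  have hcl := H98.M24.comp_closed (M := Mdb) hr
  have hrC : r ∈ C := H98.M24.mem_comp_self _ _
  have hNC : N ⊆ C := fun x hx => hcl.cl r hrC x hx.1 hx.2.2
  set Z := {z | z ∈ C ∧ z ≠ r ∧ z ∉ N} with hZ
  have hsrg := srg_local h hd hb hdb hr
  have habove : ∀ u ∈ N, 224 ≤ (Z ∩ perp Mdb u).ncard := by
    intro u hu
    have hu' := srg_local h hd hb hdb hu.1
    have hsub : perp Mdb u \ insert r (N ∩ perp Mdb u) ⊆ Z ∩ perp Mdb u := fun w hw => by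
      obtain ⟨hw, hwn⟩ := hw
      simp only [Set.mem_insert_iff, Set.mem_inter_iff, not_or, not_and] at hwn
      exact ⟨⟨hcl.cl u (hNC hu) w hw.1 hw.2.2, hwn.1, fun h' => hwn.2 h' hw⟩, hw⟩
    refine le_trans ?_ (Set.ncard_le_ncard hsub (Set.toFinite _))
    have h126 : (N ∩ perp Mdb u).ncard = 126 := by
      rw [← hsrg.deg u hu]
      congr 1
      ext w
      simp only [hN, perp, Set.mem_inter_iff, Set.mem_ofPred_eq]
      tauto
    rw [Set.ncard_sdiff (Set.insert_subset (perp_mem_symm hr hu) Set.inter_subset_right)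
      (Set.toFinite _), Set.ncard_insert_of_notMem (fun h' => h'.1.2.1 rfl) (Set.toFinite _), h126,
      hu'.card]
  have hbelow : ∀ z ∈ Z, (N ∩ perp Mdb z).ncard ≤ 140 := fun z hz =>
    inner_le h hd hb hdb hr (hcl.sub hz.1) fun hc => hz.2.2 ⟨hcl.sub hz.1, hz.2.1, hc⟩
  have hcount : N.ncard * 224 ≤ Z.ncard * 140 := by
    rw [Set.ncard_eq_toFinset_card Z (Set.toFinite Z),
      Set.ncard_eq_toFinset_card N (Set.toFinite N)]
    refine Finset.card_mul_le_card_mul (fun u z => z ∈ perp Mdb u) (fun u hu => ?_) (fun z hz => ?_)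
    · rw [Set.Finite.mem_toFinset] at hu
      refine (habove u hu).trans (le_of_eq ?_)
      rw [← Set.ncard_coe_finset]
      congr 1
      ext w
      simp [Finset.bipartiteAbove]
    · rw [Set.Finite.mem_toFinset] at hz
      refine le_trans (le_of_eq ?_) (hbelow z hz)
      rw [← Set.ncard_coe_finset]
      congr 1
      ext w
      simp only [Finset.bipartiteBelow, Finset.coe_filter, Set.Finite.mem_toFinset,
        Set.mem_ofPred_eq, Set.mem_inter_iff]
      exact ⟨fun h' => ⟨h'.1, perp_mem_symm h'.1.1 h'.2⟩,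
        fun h' => ⟨h'.1, perp_mem_symm (hcl.sub hz.1) h'.2⟩⟩
  have hsub : insert r (N ∪ Z) ⊆ C := Set.insert_subset hrC (Set.union_subset hNC fun z hz => hz.1)
  have h1 := Set.ncard_le_ncard hsub (Set.toFinite _)
  rw [Set.ncard_insert_of_notMem (fun h' => h'.elim (fun h' => h'.2.1 rfl) fun h' => h'.2.1 rfl)
    (Set.toFinite _), Set.ncard_union_eq (Set.disjoint_left.2 fun x hx hx' => hx'.2.2 hx)
    (Set.toFinite _) (Set.toFinite _)] at h1
  rw [hsrg.card] at hcount h1
  omega

variable (hle : (perp D d ∩ perp D b).ncard ≤ 1620)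
include hle

/-- There is one component. -/
theorem connected {r s : X} (hr : r ∈ Mdb) (hs : s ∈ Mdb) : s ∈ H98.M24.comp Mdb r := by
  by_contra hn
  have hcr := H98.M24.comp_closed (M := Mdb) hr
  have hdisj : Disjoint (H98.M24.comp Mdb r) (H98.M24.comp Mdb s) := Set.disjoint_left.2 fun x hx hx' =>
    hn (H98.M24.comp_subset hcr hx (H98.M24.comp_symm hx'))
  have h1 := Set.ncard_le_ncard (Set.union_subset hcr.sub (H98.M24.comp_closed (M := Mdb) hs).sub)
    (Set.toFinite (perp D d ∩ perp D b))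
  rw [Set.ncard_union_eq hdisj (Set.toFinite _) (Set.toFinite _)] at h1
  have := comp_ge h hd hb hdb hr
  have := comp_ge h hd hb hdb hs
  omega

/-- The common partners are one class of the group they generate. -/
theorem cls_M (hne : (perp D d ∩ perp D b).Nonempty) :
    IsThreeTranspositionClass ((↑) ⁻¹' Mdb : Set ↥(Subgroup.closure Mdb)) := by
  obtain ⟨r, hr⟩ := hne
  set L := Subgroup.closure (perp D d ∩ perp D b) with hL
  have hT : IsThreeTranspositionSet ((↑) ⁻¹' Mdb : Set ↥L) := by
    have hM := tt_M h hd hb hdb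
    refine ⟨fun x hx => by rw [← Subgroup.orderOf_coe]; exact hM.1 _ hx, fun x hx y hy => ?_⟩
    exact (hM.2 _ hx _ hy).imp (fun e => Subtype.ext (by simpa using e))
      fun e => Subtype.ext (by simpa using e)
  have hM := tt_M h hd hb hdb
  -- two non-commuting members are conjugate
  have hbraid : ∀ x ∈ Mdb, ∀ v ∈ Mdb, ¬ Commute x v → ∃ g ∈ L, g * x * g⁻¹ = v := fun x hx v hv hn => by
    refine ⟨x * v, mul_mem (Subgroup.subset_closure hx) (Subgroup.subset_closure hv), ?_⟩
    rw [mul_inv_rev, tt_inv hM hx, tt_inv hM hv,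
      show x * v * x * (v * x) = x * (v * x * v) * x by group, ← tt_braid hM hx hv hn,
      show x * (x * v * x) * x = (x * x) * v * (x * x) by group, tt_mul_self hM hx, one_mul, mul_one]
  have hall : ∀ x ∈ Mdb, ∀ y ∈ Mdb, ∃ g ∈ L, g * x * g⁻¹ = y := by
    intro x hx y hy
    have hc := connected h hd hb hdb hle hx hy
    induction hc with
    | refl => exact ⟨1, one_mem _, by group⟩
    | @tail p q _ hpq ih =>
      obtain ⟨g, hg, rfl⟩ := ih hpq.1
      by_cases he : q = g * x * g⁻¹
      · exact ⟨g, hg, he.symm⟩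
      set p := g * x * g⁻¹
      have hq : q ∈ perp Mdb p := ⟨hpq.2.1, he, hpq.2.2⟩
      have hsrg := srg_local h hd hb hdb hpq.1
      obtain ⟨t, ht⟩ : (perp (perp Mdb p) q).Nonempty := Set.nonempty_of_ncard_ne_zero
        (by rw [hsrg.deg q hq]; norm_num)
      have hst := srg_local h hd hb hdb ht.1.1
      have hp' : p ∈ perp Mdb t := perp_mem_symm hpq.1 ht.1
      have hq' : q ∈ perp Mdb t := perp_mem_symm hpq.2.1 ⟨ht.1.1, ht.2⟩
      obtain ⟨u, hu, hun⟩ := Set.exists_mem_notMem_of_ncard_lt_ncard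
        (s := insert p (perp (perp Mdb t) p) ∪ insert q (perp (perp Mdb t) q)) (t := perp Mdb t) (by
          have h1 := Set.ncard_insert_le p (perp (perp Mdb t) p)
          have h2 := Set.ncard_insert_le q (perp (perp Mdb t) q)
          have h3 := Set.ncard_union_le (insert p (perp (perp Mdb t) p))
            (insert q (perp (perp Mdb t) q))
          rw [hst.deg p hp'] at h1
          rw [hst.deg q hq'] at h2
          rw [hst.card]
          omega) (Set.toFinite _)
      simp only [Set.mem_union, Set.mem_insert_iff, not_or] at hun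
      obtain ⟨k₁, hk₁, e₁⟩ := hbraid p hpq.1 u hu.1 fun hc => hun.1.2 ⟨hu, hun.1.1, hc⟩
      obtain ⟨k₂, hk₂, e₂⟩ := hbraid u hu.1 q hpq.2.1 fun hc => hun.2.2 ⟨hu, hun.2.1, hc.symm⟩
      refine ⟨k₂ * k₁ * g, mul_mem (mul_mem hk₂ hk₁) hg, ?_⟩
      rw [← e₂, ← e₁]
      simp only [p, mul_inv_rev]
      group
  refine ⟨hT, ⟨⟨r, Subgroup.subset_closure hr⟩, hr, ?_⟩, Subgroup.closure_closure_coe_preimage⟩
  ext x
  constructor
  · intro hx
    obtain ⟨g, hg, e⟩ := hall r hr _ hx
    exact isConj_iff.2 ⟨⟨g, hg⟩, Subtype.ext e⟩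
  · intro hx
    obtain ⟨g, rfl⟩ := isConj_iff.1 hx
    have hconj : ∀ g ∈ L, ∀ v ∈ Mdb, g * v * g⁻¹ ∈ Mdb := by
      intro g hg v hv
      have hfix : ∀ w ∈ ({d, b} : Set X), g * w * g⁻¹ = w := by
        intro w hw
        have hle : L ≤ Subgroup.centralizer ({w} : Set X) := by
          rw [hL, Subgroup.closure_le]
          intro a ha
          refine Subgroup.mem_centralizer_singleton_iff.2 ?_
          rcases hw with rfl | rfl
          exacts [ha.1.2.2.eq.symm, ha.2.2.2.eq.symm]
        rw [Subgroup.mem_centralizer_singleton_iff.1 (hle hg), mul_inv_cancel_right]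
      have h1 := perp_conj h.conj g hv.1
      have h2 := perp_conj h.conj g hv.2
      rw [hfix d (Or.inl rfl)] at h1
      rw [hfix b (Or.inr rfl)] at h2
      exact ⟨h1, h2⟩
    exact hconj _ g.2 r hr

/-- The action on the common partners is primitive. -/
theorem prim_M (hne : (perp D d ∩ perp D b).Nonempty) :
    IsPrimitiveUnderConj ((↑) ⁻¹' Mdb : Set ↥(Subgroup.closure Mdb)) := by
  classical
  have hcls := cls_M h hd hb hdb hle hne
  obtain ⟨r, hr⟩ := hne
  have hM := tt_M h hd hb hdb
  set L := Subgroup.closure (perp D d ∩ perp D b) with hL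
  refine ⟨fun a ha c hc => class_isConj hcls ha hc, ?_, ?_⟩
  · obtain ⟨s, hs⟩ := Set.nonempty_of_ncard_ne_zero (s := perp Mdb r)
      (by rw [(srg_local h hd hb hdb hr).card]; norm_num)
    exact ⟨⟨r, Subgroup.subset_closure hr⟩, hr, ⟨s, Subgroup.subset_closure hs.1⟩, hs.1,
      fun e => hs.2.1 (congrArg Subtype.val e).symm⟩
  intro B' hB' hblock
  rcases B'.subsingleton_or_nontrivial with hs | ⟨a', ha', c', hc', hac'⟩
  · exact Or.inl hs
  refine Or.inr (Set.Subset.antisymm hB' ?_)
  -- the block read in `X`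
  set B : Set X := Subtype.val '' B' with hBdef
  have hBM : B ⊆ Mdb := by rintro _ ⟨x, hx, rfl⟩; exact hB' hx
  have hmove : ∀ a ∈ B, ∀ g ∈ Mdb, Commute g a → ∀ v ∈ B, g * v * g ∈ B := by
    rintro _ ⟨a, ha, rfl⟩ g hg hga _ ⟨v, hv, rfl⟩
    let g' : ↥L := ⟨g, Subgroup.subset_closure hg⟩
    have hgi : (g'⁻¹ : ↥L) = g' := Subtype.ext (tt_inv hM hg)
    have heq : (fun x => g' * x * g'⁻¹) '' B' = B' := by
      refine (hblock g').resolve_right fun hdis => ?_
      refine Set.disjoint_left.1 hdis ⟨a, ha, ?_⟩ ha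
      exact Subtype.ext (show g * (a : X) * g⁻¹ = a by rw [hga.eq, mul_inv_cancel_right])
    exact ⟨g' * v * g'⁻¹, heq ▸ ⟨v, hv, rfl⟩, by rw [hgi]; rfl⟩
  -- two commuting members
  obtain ⟨a, ha, c, hc, hca, hac⟩ : ∃ a ∈ B, ∃ c ∈ B, c ≠ a ∧ Commute a c := by
    by_cases hcm : Commute (a' : X) (c' : X)
    · exact ⟨_, ⟨a', ha', rfl⟩, _, ⟨c', hc', rfl⟩, fun e => hac' (Subtype.ext e.symm), hcm⟩
    set a : X := (a' : X) with hadef
    set c : X := (c' : X) with hcdef
    have haB : a ∈ B := ⟨a', ha', rfl⟩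
    have hcB : c ∈ B := ⟨c', hc', rfl⟩
    have haM := hBM haB
    have hcM := hBM hcB
    set N := perp Mdb a with hN
    set P := N ∩ perp Mdb c with hP
    have hP140 : P.ncard ≤ 140 := inner_le h hd hb hdb haM hcM hcm
    have hsrg := srg_local h hd hb hdb haM
    obtain ⟨y, hy, y', hy', hyy', hyc⟩ :
        ∃ y ∈ N \ P, ∃ y' ∈ N \ P, y' ≠ y ∧ Commute y y' := by
      by_contra hno
      push Not at hno
      have hcount : (N \ P).ncard * 126 ≤ P.ncard * 126 := by
        rw [Set.ncard_eq_toFinset_card (N \ P) (Set.toFinite _),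
          Set.ncard_eq_toFinset_card P (Set.toFinite _)]
        refine Finset.card_mul_le_card_mul (fun y u => u ∈ perp N y) (fun y hy => ?_) fun u hu => ?_
        · rw [Set.Finite.mem_toFinset] at hy
          refine le_trans (le_of_eq (hsrg.deg y hy.1).symm) (le_of_eq ?_)
          rw [← Set.ncard_coe_finset]
          congr 1
          ext w
          simp only [Finset.bipartiteAbove, Finset.coe_filter, Set.Finite.mem_toFinset,
            Set.mem_ofPred_eq]
          refine ⟨fun hw => ⟨?_, hw⟩, fun hw => hw.2⟩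
          by_contra hwP
          exact hno y hy w ⟨hw.1, hwP⟩ hw.2.1 hw.2.2
        · rw [Set.Finite.mem_toFinset] at hu
          refine le_trans ?_ (le_of_eq (hsrg.deg u hu.1))
          rw [← Set.ncard_coe_finset]
          refine Set.ncard_le_ncard ?_ (Set.toFinite _)
          intro w hw
          simp only [Finset.bipartiteBelow, Finset.coe_filter, Set.Finite.mem_toFinset,
            Set.mem_ofPred_eq] at hw
          exact perp_mem_symm hw.1.1 hw.2
      have := Set.ncard_sdiff (s := P) (t := N) Set.inter_subset_left (Set.toFinite _)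
      rw [hsrg.card] at this
      omega
    have hfar : ∀ v ∈ N \ P, ¬ Commute c v ∧ v * c * v ∈ B := fun v hv =>
      ⟨fun h' => hv.2 ⟨hv.1, hv.1.1, fun e => hcm (e ▸ hv.1.2.2), h'⟩,
        hmove a haB v hv.1.1 hv.1.2.2.symm c hcB⟩
    refine ⟨_, (hfar y hy).2, _, (hfar y' hy').2, ?_, ?_⟩
    · rw [← tt_braid hM hcM hy.1.1 (hfar y hy).1, ← tt_braid hM hcM hy'.1.1 (hfar y' hy').1]
      exact fun e => hyy' (mul_left_cancel (mul_right_cancel e))
    · rw [← tt_braid hM hcM hy.1.1 (hfar y hy).1, ← tt_braid hM hcM hy'.1.1 (hfar y' hy').1]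
      have := (conj_commute_iff c y y').2 hyc
      rwa [tt_inv hM hcM] at this
  -- a member of the block with a commuting one in it has all its partners in it
  have hall : ∀ a ∈ B, ∀ c ∈ B, c ≠ a → Commute a c → perp Mdb a ⊆ B := by
    intro a ha c hc hca hac y hy
    have haM := hBM ha
    have step : ∀ c ∈ B, c ∈ perp Mdb a → ∀ v ∈ perp Mdb a, ¬ Commute v c → v ∈ B := by
      intro c hc hcN v hv hvc
      have h1 := hmove a ha v hv.1 hv.2.2.symm c hc
      rw [tt_braid hM hv.1 (hBM hc) hvc] at h1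
      have h2 := hmove a ha c hcN.1 hcN.2.2.symm _ h1
      rwa [show c * (c * v * c) * c = (c * c) * v * (c * c) by group, tt_mul_self hM hcN.1,
        one_mul, mul_one] at h2
    have hcN : c ∈ perp Mdb a := ⟨hBM hc, hca, hac⟩
    have hsrg := srg_local h hd hb hdb haM
    obtain ⟨v, hv, hvn⟩ := Set.exists_mem_notMem_of_ncard_lt_ncard
      (s := insert c (perp (perp Mdb a) c) ∪ insert y (perp (perp Mdb a) y)) (t := perp Mdb a) (by
        have h1 := Set.ncard_insert_le c (perp (perp Mdb a) c)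
        have h2 := Set.ncard_insert_le y (perp (perp Mdb a) y)
        have h3 := Set.ncard_union_le (insert c (perp (perp Mdb a) c)) (insert y (perp (perp Mdb a) y))
        rw [hsrg.deg c hcN] at h1
        rw [hsrg.deg y hy] at h2
        rw [hsrg.card]
        omega) (Set.toFinite _)
    simp only [Set.mem_union, Set.mem_insert_iff, not_or] at hvn
    have hvB := step c hc hcN v hv fun hc' => hvn.1.2 ⟨hv, hvn.1.1, hc'.symm⟩
    exact step v hvB hv y hy fun hc' => hvn.2.2 ⟨hv, hvn.2.1, hc'⟩
  intro x hx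
  have hx' : (x : X) ∈ B := by
    have hconn := connected h hd hb hdb hle (hBM ha) hx
    have key : ∀ z, Relation.ReflTransGen (fun p q => p ∈ Mdb ∧ q ∈ Mdb ∧ Commute p q) a z →
        z ∈ B ∧ perp Mdb z ⊆ B := by
      intro z hz
      induction hz with
      | refl => exact ⟨ha, hall a ha c hc hca hac⟩
      | @tail p q _ hpq ih =>
        by_cases he : q = p
        · exact he ▸ ih
        have hq := ih.2 ⟨hpq.2.1, he, hpq.2.2⟩
        exact ⟨hq, hall q hq p ih.1 (Ne.symm he) hpq.2.2.symm⟩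
    exact (key _ hconn).1
  obtain ⟨x', hx', e⟩ := hx'
  rwa [Subtype.ext e] at hx'

end H20.BigBound
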